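import Cfsg.Agent.Lib.Recog.FrobSys.Zassenhaus
import Cfsg.Agent.Lib.Perm.ZassG.SharpPGLEven
import Cfsg.Agent.Lib.Perm.SLTwoPGLEven
import Cfsg.Agent.Lib.Recog.CIT.Defs

/-!
# The groups with a nilpotent trivial-intersection subgroup of even order

Without soluble normal subgroups such a group is simple. By Feit's theorem it is `SL(2, 2 ^ n)`,
or the trivial-intersection subgroup is a 2-group of order `q ^ 2`, `q` an odd power of two, and
the group has the structure of the Suzuki group of that order.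
-/

set_option autoImplicit false
set_option linter.style.haveILetI false
set_option linter.unusedSectionVars false

namespace CfsgLib.Recog.FrobSys

open Subgroup MulAction
open CfsgLib.Involutions

variable {G : Type*} [Group G] [Finite G]

namespace Setup

variable {A : Subgroup G} {t : G} (hs : Setup A t)
include hs

local notation "x₀" => (QuotientGroup.mk (1 : G) : G ⧸ N₀ A)

/-- A normal subgroup containing an involution is everything. -/
theorem normal_eq_top {N : Subgroup G} [hN : N.Normal] {s : G} (hsN : s ∈ N)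
    (hso : orderOf s = 2) : N = ⊤ := by
  classical
  have hSE := hs.stronglyEmbedded
  have hinv : ∀ r : G, orderOf r = 2 → r ∈ N := fun r hr => by
    obtain ⟨g, rfl⟩ := isConj_iff.1 (SE.isConj hSE hso hr)
    exact hN.conj_mem s hsN g
  obtain ⟨z, hz⟩ := hs.exists_other
  set D := stabilizer G x₀ ⊓ stabilizer G z
  obtain ⟨hDcard, -, hDinv⟩ := hs.pair_facts hz
  obtain ⟨v, hv, hvz⟩ := hs.exists_swapping hz
  have hvN₀ : v ∉ N₀ A := fun h => hz ((mem_N₀_iff.1 h).symm.trans hvz)
  have hDH : ∀ d ∈ D, d ∈ N₀ A := fun d hd => mem_N₀_iff.2 hd.1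
  have hDN : ∀ d ∈ D, d ∈ N := by
    intro d hd
    have h1 : v * d * (v * d) = 1 := by
      have := hDinv v hv hvz d hd
      rw [invol_inv hv] at this
      rw [show v * d * (v * d) = (v * d * v) * d by group, this, inv_mul_cancel]
    have h2 : v * d ≠ 1 := fun e => hvN₀ (by
      rw [show v = d⁻¹ from eq_inv_of_mul_eq_one_left e]
      exact inv_mem (hDH d hd))
    have h3 := mul_mem (hinv v hv) (hinv (v * d) (invol_iff.2 ⟨h1, h2⟩))
    rwa [← mul_assoc, invol_mul_self hv, one_mul] at h3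
  have hAH : A ≤ N₀ A := le_normalizer
  have ha0 : ∀ a ∈ A, a • x₀ = x₀ := fun a ha => mem_N₀_iff.1 (hAH ha)
  have hD2 : 2 ≤ Nat.card D := by rw [hDcard]; exact hs.two_le_invol
  -- the conjugates of `D` under `A` fill `N ⊓ H`
  let φ : (↥(A ⊓ N) ⊕ ↥A × {d : D // d ≠ 1}) → ↥(N₀ A ⊓ N) :=
    Sum.elim (fun a => ⟨a, hAH a.2.1, a.2.2⟩)
      (fun p => ⟨(p.1 : G) * (p.2.1 : G) * (p.1 : G)⁻¹,
        mul_mem (mul_mem (hAH p.1.2) (hDH _ p.2.1.2)) ((N₀ A).inv_mem (hAH p.1.2)),
        hN.conj_mem _ (hDN _ p.2.1.2) _⟩)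
  have hne : ∀ p : ↥A × {d : D // d ≠ 1}, ((φ (Sum.inr p) : ↥(N₀ A ⊓ N)) : G) ∉ A := by
    rintro ⟨a, ⟨d, hd⟩, hd1⟩ h
    refine hd1 (Subtype.ext ?_)
    have h' : (a : G) * d * (a : G)⁻¹ ∈ A := h
    have hdA : d ∈ A := by
      have := mul_mem (mul_mem (inv_mem a.2) h') a.2
      rwa [show (a : G)⁻¹ * ((a : G) * d * (a : G)⁻¹) * a = d by group] at this
    exact hs.free hdA hz hd.2
  have hφ : Function.Injective φ := by
    rintro (a | p) (b | q) h
    · exact congrArg Sum.inl (Subtype.ext (congrArg Subtype.val h :))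
    · exact absurd (by rw [← h]; exact a.2.1) (hne q)
    · exact absurd (by rw [h]; exact b.2.1) (hne p)
    · obtain ⟨a, ⟨d, hd⟩, hd1⟩ := p
      obtain ⟨b, ⟨e, he⟩, he1⟩ := q
      have h' : (a : G) * d * (a : G)⁻¹ = b * e * (b : G)⁻¹ := congrArg Subtype.val h
      set c := (a : G)⁻¹ * b with hc
      have hcA : c ∈ A := mul_mem (inv_mem a.2) b.2
      have hde : d = c * e * c⁻¹ := by
        calc d = (a : G)⁻¹ * ((a : G) * d * (a : G)⁻¹) * a := by group
          _ = _ := by rw [h', hc]; group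
      have hcz : c • z = z := by
        by_contra hne'
        refine hd1 (Subtype.ext (hs.eq_one_of_three hz ?_ (Ne.symm hne') hd.1 hd.2 ?_))
        · intro e'
          have := congrArg (c⁻¹ • ·) e'
          simp only [inv_smul_smul, inv_smul_eq_iff.2 (ha0 c hcA).symm] at this
          exact hz this
        · show d • c • z = c • z
          rw [hde, mul_smul, mul_smul, inv_smul_smul]
          congr 1
          exact he.2
      have hc1 := hs.free hcA hz hcz
      rw [hc1, one_mul, inv_one, mul_one] at hde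
      subst hde
      rw [hc, inv_mul_eq_one] at hc1
      obtain rfl : a = b := Subtype.ext hc1
      rfl
  have hup : Nat.card ↥(N₀ A ⊓ N) ≤ Nat.card D * Nat.card ↥(A ⊓ N) := by
    rw [← Nat.card_prod]
    refine Nat.card_le_card_of_surjective (α := D × ↥(A ⊓ N))
      (fun p => ⟨(p.1 : G) * p.2, mul_mem (hDH _ p.1.2) (hAH p.2.2.1),
        mul_mem (hDN _ p.1.2) p.2.2.2⟩) fun h => ?_
    obtain ⟨d, hd, hda⟩ := hs.exists_factor h.2.1 hz
    exact ⟨(⟨d, hd⟩, ⟨d⁻¹ * h, hda, mul_mem (N.inv_mem (hDN d hd)) h.2.2⟩),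
      Subtype.ext (mul_inv_cancel_left _ _)⟩
  have hlow := (Nat.card_le_card_of_injective φ hφ).trans hup
  have hD' : Nat.card {d : D // d ≠ 1} + 1 = Nat.card D := by
    haveI := Fintype.ofFinite D
    rw [Nat.card_eq_fintype_card, Fintype.card_subtype_compl, Fintype.card_subtype_eq,
      Nat.card_eq_fintype_card, Nat.sub_add_cancel Fintype.card_pos]
  rw [Nat.card_sum, Nat.card_prod, ← hD'] at hlow
  have hle : Nat.card A ≤ Nat.card ↥(A ⊓ N) := by
    refine le_of_mul_le_mul_right (a := Nat.card {d : D // d ≠ 1}) ?_ (by omega)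
    nlinarith
  have hAN : A ≤ N := inf_eq_left.1 (Subgroup.eq_of_le_of_card_ge inf_le_left hle)
  have hHN : N₀ A ≤ N := fun h hh => by
    obtain ⟨d, hd, hda⟩ := hs.exists_factor hh hz
    simpa using mul_mem (hDN d hd) (hAN hda)
  refine eq_top_iff.2 fun g _ => ?_
  by_cases hg : g ∈ N₀ A
  · exact hHN hg
  have hgz : x₀ ≠ g • x₀ := fun e => hg (mem_N₀_iff.2 e.symm)
  obtain ⟨u, hu, hug⟩ := hs.exists_swapping hgz
  have hm : u⁻¹ * g ∈ N₀ A := mem_N₀_iff.2 (by rw [mul_smul, ← hug, inv_smul_smul])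
  simpa using mul_mem (hinv u hu) (hHN hm)

/-- Without soluble normal subgroups the group is simple. -/
theorem isSimple (hrad : ∀ N : Subgroup G, N.Normal → Group.IsSolvable N → N = ⊥) :
    IsSimpleGroup G := by
  haveI : Nontrivial G := ⟨⟨t, 1, hs.ne_one⟩⟩
  refine ⟨fun N hN => or_iff_not_imp_left.2 fun hne => ?_⟩
  haveI := hN
  obtain ⟨r, hr, hro⟩ : ∃ r ∈ N, orderOf r = 2 := by
    refine (even_card_iff N).1 ((Nat.even_or_odd _).resolve_right fun ho => hne ?_)
    exact hrad N hN (FT.isSolvable_of_odd ho)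
  exact hs.normal_eq_top hr hro

/-- Feit's dichotomy. -/
theorem sl_two_or_two_group {z : G ⧸ N₀ A} (hz : x₀ ≠ z) :
    (∃ (K : Type) (_ : Field K) (_ : Fintype K), (∃ n : ℕ, 2 ≤ n ∧ Fintype.card K = 2 ^ n) ∧
        Nonempty (G ≃* Matrix.SpecialLinearGroup (Fin 2) K)) ∨
      Chev.Suz2.Ctx G x₀ z A := by
  classical
  have hZ := hs.isZassenhausGroup
  have hK := hs.isKernel
  have hI := hs.inverted hz
  obtain ⟨hD, -, -⟩ := hs.pair_facts hz
  have hD2 : 2 ≤ Nat.card (stabilizer G x₀ ⊓ stabilizer G z : Subgroup G) :=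
    hD ▸ hs.two_le_invol
  -- involutions of `A` with `1` form a subgroup of order `e + 1`
  let Z₁ : Subgroup A :=
    { carrier := {a | a * a = 1}
      one_mem' := one_mul 1
      inv_mem' := fun {a} ha => by
        show a⁻¹ * a⁻¹ = 1
        rw [← mul_inv_rev, show a * a = 1 from ha, inv_one]
      mul_mem' := fun {a b} ha hb => by
        show a * b * (a * b) = 1
        rcases eq_or_ne a 1 with rfl | ha1
        · rw [one_mul]; exact hb
        have hc : Commute a b := Subtype.ext (hs.invol_central (le_normalizer a.2)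
          (invol_iff.2 ⟨congrArg Subtype.val ha, fun e => ha1 (Subtype.ext e)⟩) b.2).eq
        rw [hc.symm.mul_mul_mul_comm, show a * a = 1 from ha, show b * b = 1 from hb, one_mul] }
  have hZ₁ : Nat.card Z₁ = Nat.card (stabilizer G x₀ ⊓ stabilizer G z : Subgroup G) + 1 := by
    rw [hD, ← Finite.card_option]
    exact Nat.card_congr
      { toFun := fun a => if ha : (a : G) = 1 then none else
          some ⟨a, invol_iff.2 ⟨congrArg Subtype.val a.2, ha⟩, le_normalizer a.1.2⟩
        invFun := fun o => o.elim 1 fun s =>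
          ⟨⟨s, hs.invol_mem s.2.2 s.2.1⟩, Subtype.ext (invol_mul_self s.2.1)⟩
        left_inv := fun a => by
          by_cases ha : (a : G) = 1
          · simp only [ha, dite_true, Option.elim]
            exact Subtype.ext (Subtype.ext ha.symm)
          · simp [ha]
        right_inv := fun o => by
          cases o with
          | none => simp
          | some s =>
            have : (s : G) ≠ 1 := fun e => by
              have h2 := s.2.1
              rw [e, orderOf_one] at h2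
              omega
            simp [this] }
  let _ : Fintype G := Fintype.ofFinite G
  rcases Perm.ZassG.feit (Nat.card G) G rfl hZ hz hI.odd A hK with hle | ⟨h2, hna, -⟩
  swap
  · exact Or.inr ⟨hZ, hz, hI, hK, h2, hna⟩
  left
  have htop : Z₁ = ⊤ := by
    refine eq_top_of_card_eq Z₁ ?_
    obtain ⟨c, hc⟩ := Z₁.card_subgroup_dvd_card
    have hApos : 0 < Nat.card A := Nat.card_pos
    rcases c with _ | _ | c
    · rw [mul_zero] at hc; omega
    · rw [hc, zero_add, mul_one]
    · exfalso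
      have : 2 * Nat.card Z₁ ≤ Nat.card A := by
        rw [hc, mul_comm]; exact Nat.mul_le_mul_left _ (by omega)
      have hle' : Nat.card A ≤
          2 * Nat.card (stabilizer G x₀ ⊓ stabilizer G z : Subgroup G) + 1 := hle
      omega
  have hA : Nat.card A = Nat.card (stabilizer G x₀ ⊓ stabilizer G z : Subgroup G) + 1 := by
    rw [← hZ₁, htop, Subgroup.card_top]
  obtain ⟨n, hn⟩ := IsPGroup.iff_card.1
    (show IsPGroup 2 A from fun a => ⟨1, by
      rw [pow_one, pow_two]; exact (htop ▸ mem_top a : a ∈ Z₁)⟩)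
  have hΩ := hK.card_add_one hz
  have hn2 : 2 ≤ n := by
    by_contra h
    interval_cases n <;> omega
  have hΩodd : Odd (Nat.card (G ⧸ N₀ A)) := by
    rw [← hΩ, hn]
    exact (Nat.even_pow.2 ⟨even_two, by omega⟩).add_one
  obtain ⟨K, iK, iK', hKcard, ⟨e⟩⟩ := Perm.ZassG.exists_pgl_of_odd hZ hz
    (show Nat.card (stabilizer G x₀ ⊓ stabilizer G z : Subgroup G) + 2 = _ by omega) hΩodd
  have hK2 : Fintype.card K = 2 ^ n := by
    rw [← Nat.card_eq_fintype_card]; omega
  have hchar : ringChar K = 2 := by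
    obtain ⟨k, hp, hk⟩ := FiniteField.card K (ringChar K)
    rw [hK2] at hk
    refine (Nat.prime_dvd_prime_iff_eq hp Nat.prime_two).1 (hp.dvd_of_dvd_pow (n := n) ?_)
    rw [hk]
    exact dvd_pow_self _ k.pos.ne'
  obtain ⟨f⟩ := CfsgLib.Perm.nonempty_sl_two_equiv_pgl K hchar
  exact ⟨K, iK, iK', ⟨n, hn2, hK2⟩, ⟨e.trans f.symm⟩⟩

/-- The structure of the Suzuki case. -/
theorem exists_seData {z : G ⧸ N₀ A} (hz : x₀ ≠ z) (hC : Chev.Suz2.Ctx G x₀ z A) :
    ∃ (D : Subgroup G) (m : ℕ), 1 ≤ m ∧ CIT.SEData G A D (2 ^ (2 * m + 1)) ∧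
      Nat.card A = (2 ^ (2 * m + 1)) ^ 2 := by
  classical
  have hZ := hs.isZassenhausGroup
  have hK := hs.isKernel
  obtain ⟨hD, htrans, hinvD⟩ := hs.pair_facts hz
  obtain ⟨n, ⟨m, rfl⟩, hn1, hq, -, -, hF⟩ := hC.kernel_card
  replace hq : Nat.card (stabilizer G x₀ ⊓ stabilizer G z : Subgroup G) + 1 =
      2 ^ (2 * m + 1) := hq
  set D := stabilizer G x₀ ⊓ stabilizer G z with hDdef
  have hDH : D ≤ N₀ A := fun d hd => mem_N₀_iff.2 hd.1
  refine ⟨D, m, by omega, ?_, hF⟩
  have hsyl : ∀ P : Subgroup G, IsPGroup 2 P → A ≤ P → P = A := fun P hP hle => by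
    obtain ⟨S, hS⟩ := hs.syl
    rw [S.is_maximal' hP (hS.trans hle), S.is_maximal' hC.pgroup hS]
  have hfpf := hK.isFPF hZ hz
  haveI : IsMulCommutative D := ⟨⟨fun x y => Subtype.ext (hC.pairStab_comm' hz x.2 y.2)⟩⟩
  have hcyc : IsCyclic D := hfpf.isCyclic_of_comm (hK.ne_bot hZ hz)
  have hinvol : ∀ s ∈ A, s * s = 1 → ∀ a ∈ A, a * s = s * a := by
    intro s hsA hss a ha
    rcases eq_or_ne s 1 with rfl | hs1
    · rw [mul_one, one_mul]
    · exact (hs.invol_central (le_normalizer hsA) (invol_iff.2 ⟨hss, hs1⟩) ha).eq.symm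
  have h4 : 4 ≤ 2 ^ (2 * m + 1) :=
    (show 4 = 2 ^ 2 by norm_num).le.trans (Nat.pow_le_pow_right two_pos (by omega))
  refine ⟨hC.pgroup, hsyl, hs.stronglyEmbedded, h4, ⟨_, rfl⟩, hDH, ?_, by omega, hcyc, hinvol,
    ?_, fun s hsA hso => hs.centralizer_invol (le_normalizer hsA) hso, ?_, ?_, ?_⟩
  · have hstab : N₀ A = stabilizer G x₀ := by ext g; exact mem_N₀_iff
    rw [show normalizer (A : Set G) = stabilizer G x₀ from hstab, hK.card_stabilizer hZ hz,
      show 2 ^ (2 * m + 1) - 1 = Nat.card D by omega]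
  · rw [show 2 ^ (2 * m + 1) - 1 = Nat.card D by omega, hD]
    exact Nat.card_congr
      { toFun := fun s => ⟨s, s.2.2, le_normalizer s.2.1⟩
        invFun := fun s => ⟨s, hs.invol_mem s.2.2 s.2.1, s.2.1⟩
        left_inv := fun s => rfl
        right_inv := fun s => rfl }
  · intro s hsA u huA hso huo
    obtain ⟨d, hd, rfl⟩ := htrans s hso (le_normalizer hsA)
    obtain ⟨e, he, rfl⟩ := htrans u huo (le_normalizer huA)
    exact ⟨e * d⁻¹, mul_mem he (inv_mem hd), by group⟩
  · obtain ⟨v, hv, hvz⟩ := hs.exists_swapping hz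
    exact ⟨v, hv, fun h => hz ((mem_N₀_iff.1 h).symm.trans hvz), fun d hd => hinvD v hv hvz d hd⟩
  · rw [hK.card_group hZ hz, ← hK.card_add_one hz,
      show 2 ^ (2 * m + 1) - 1 = Nat.card D by omega, mul_assoc]

end Setup

end CfsgLib.Recog.FrobSys
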