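import Cfsg.Agent.Lib.Recog.FrobSys.Classify
import Cfsg.Agent.Lib.Base.ThompsonFPF
import Cfsg.Agent.Lib.Base.FPF
import Cfsg.Agent.Lib.Base.Cores
import Cfsg.Agent.Lib.Base.Nilpotent
import Cfsg.Agent.Lib.Recog.EPPOTwo.Locals
import Cfsg.Agent.Lib.Involutions.ZStar.BrauerSuzuki

/-!
# Frobenius systems on the maximal solvable subgroups

If every maximal solvable subgroup `M` carries a normal subgroup `F M` as in a Frobenius group with
trivial intersections, a non-solvable group has no soluble normal subgroup and one of the `F M`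
contains a Sylow 2-subgroup.
-/

set_option autoImplicit false
set_option linter.style.haveILetI false
set_option linter.unusedSectionVars false

open scoped Pointwise

namespace CfsgLib.Recog.FrobSys

open Subgroup

variable {G : Type*} [Group G] [Finite G]

/-- A maximal solvable subgroup. -/
def MaxSol (M : Subgroup G) : Prop :=
  Group.IsSolvable M ∧ ∀ M' : Subgroup G, M < M' → ¬ Group.IsSolvable M'

/-- The hypothesis on the maximal solvable subgroups. -/
def System (F : Subgroup G → Subgroup G) : Prop :=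
  ∀ M : Subgroup G, MaxSol M →
    F M ≤ M ∧ M ≤ normalizer (F M : Set G) ∧
    (∀ a ∈ M, a ∉ F M → ∀ x ∈ F M, x * a = a * x → x = 1) ∧
    (∀ g : G, g ∉ M → F M ⊓ (MulAut.conj g • F M) = ⊥) ∧
    (F M ≠ ⊥ ∨ IsMulCommutative M)

theorem exists_maxSol {H : Subgroup G} (hH : Group.IsSolvable H) :
    ∃ M : Subgroup G, H ≤ M ∧ MaxSol M := by
  obtain ⟨M, hle, hmax⟩ :=
    Finite.exists_le_maximal (p := fun K : Subgroup G => Group.IsSolvable K) hH
  exact ⟨M, hle, hmax.prop, fun M' hlt h => hlt.not_ge (hmax.2 h hlt.le)⟩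

theorem mem_conj_smul {g x : G} {H : Subgroup G} :
    x ∈ MulAut.conj g • H ↔ g⁻¹ * x * g ∈ H := by
  rw [Subgroup.mem_pointwise_smul_iff_inv_smul_mem, MulAut.smul_def, ← map_inv, MulAut.conj_apply,
    inv_inv]

/-- A group with a Sylow 2-subgroup central in its normaliser is solvable. -/
theorem isSolvable_of_burnside (S : Sylow 2 G)
    (h : normalizer ((S : Subgroup G) : Set G) ≤ centralizer ((S : Subgroup G) : Set G)) :
    Group.IsSolvable G := by
  haveI : Fact (Nat.Prime 2) := ⟨Nat.prime_two⟩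
  have hc := MonoidHom.ker_transferSylow_isComplement' S h
  haveI hS : Group.IsSolvable (S : Subgroup G) := by
    haveI := S.isPGroup'.isNilpotent
    infer_instance
  refine Base.isSolvable_of_normal (MonoidHom.transferSylow S h).ker (FT.isSolvable_of_odd ?_)
    (Group.isSolvable_of_surjective (f := hc.symm.QuotientMulEquiv.symm.toMonoidHom)
      hc.symm.QuotientMulEquiv.symm.surjective)
  rw [← Nat.not_even_iff_odd, even_iff_two_dvd, ← hc.index_eq_card]
  exact S.not_dvd_index

theorem isSolvable_normalizer (S : Sylow 2 G) :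
    Group.IsSolvable (normalizer ((S : Subgroup G) : Set G)) := by
  haveI : Fact (Nat.Prime 2) := ⟨Nat.prime_two⟩
  haveI hS : Group.IsNilpotent (S : Subgroup G) := S.isPGroup'.isNilpotent
  haveI := Subgroup.normal_in_normalizer (H := (S : Subgroup G))
  refine Base.isSolvable_of_normal
    ((S : Subgroup G).subgroupOf (normalizer ((S : Subgroup G) : Set G))) ?_
    (FT.isSolvable_of_odd ?_)
  · exact Group.isSolvable_of_isSolvable_injective
      (f := (subgroupOfEquivOfLe (le_normalizer (H := (S : Subgroup G)))).toMonoidHom)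
      (subgroupOfEquivOfLe _).injective
  · rw [← Nat.not_even_iff_odd, even_iff_two_dvd, ← index_eq_card]
    intro h2
    exact S.not_dvd_index (h2.trans (relIndex_dvd_index_of_le le_normalizer))

variable {F : Subgroup G → Subgroup G} (h : System F) (hns : ¬ Group.IsSolvable G)
include h hns

/-- `F M` is trivial or a proper subgroup of `M`. -/
theorem ne_of_maxSol {M : Subgroup G} (hM : MaxSol M) (hne : F M ≠ ⊥) : F M ≠ M := by
  intro he
  obtain ⟨-, -, -, hti, -⟩ := h M hM
  rw [he] at hti hne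
  have hTI : ∀ g : G, g ∉ M → ∀ a ∈ M, g * a * g⁻¹ ∈ M → a = 1 := by
    intro g hg a ha hga
    have hm : g * a * g⁻¹ ∈ M ⊓ MulAut.conj g • M :=
      ⟨hga, mem_conj_smul.2 (by simpa [mul_assoc] using ha)⟩
    rw [hti g hg, mem_bot] at hm
    exact conj_eq_one_iff.1 hm
  obtain ⟨K, hK, hc, -⟩ := CharsMore.exists_frobenius_kernel M hTI
  haveI := hK
  haveI := hM.1
  have hfpf : Base.IsFPF M K := by
    refine ⟨fun m _ => Subgroup.mem_normalizer_iff.2 fun k => ⟨fun hk => hK.conj_mem k hk m,
      fun hk => by simpa [mul_assoc] using hK.conj_mem _ hk m⁻¹⟩,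
      fun a ha ha1 => (Subgroup.eq_bot_iff_forall _).2 fun k hk => ?_⟩
    have hcomm := Subgroup.mem_centralizer_singleton_iff.1 hk.2
    by_contra hk1
    refine ha1 (hTI k (fun hkM => hk1 ?_) a ha (by
      rw [hcomm, mul_inv_cancel_right]; exact ha))
    have : k ∈ K ⊓ M := ⟨hk.1, hkM⟩
    rwa [disjoint_iff.1 hc.disjoint, mem_bot] at this
  haveI := hfpf.isNilpotent hne
  exact hns (Base.isSolvable_of_normal K inferInstance
    (Group.isSolvable_of_surjective (f := hc.symm.QuotientMulEquiv.symm.toMonoidHom)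
      hc.symm.QuotientMulEquiv.symm.surjective))

/-- The centraliser of a non-identity element of `F M` lies in `F M`. -/
theorem centralizer_le_kernel {M : Subgroup G} (hM : MaxSol M) {x : G} (hx : x ∈ F M)
    (hx1 : x ≠ 1) : centralizer ({x} : Set G) ≤ F M := by
  obtain ⟨-, -, hfix, hti, -⟩ := h M hM
  intro g hg
  have hc := Subgroup.mem_centralizer_singleton_iff.1 hg
  have hgM : g ∈ M := by
    by_contra hgM
    have hm : x ∈ F M ⊓ MulAut.conj g • F M := by
      refine ⟨hx, mem_conj_smul.2 ?_⟩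
      rwa [mul_assoc, ← hc, inv_mul_cancel_left]
    rw [hti g hgM, mem_bot] at hm
    exact hx1 hm
  by_contra hgF
  exact hx1 (hfix g hgM hgF x hx hc.symm)

theorem isNilpotent_kernel {M : Subgroup G} (hM : MaxSol M) (hne : F M ≠ ⊥) :
    Group.IsNilpotent (F M) := by
  obtain ⟨hle, hnorm, hfix, -, -⟩ := h M hM
  obtain ⟨a, haM, haF⟩ :=
    SetLike.exists_of_lt (lt_of_le_of_ne hle (ne_of_maxSol h hns hM hne))
  have hfpf : Base.IsFPF (zpowers a) (F M) := by
    refine ⟨zpowers_le.2 (hnorm haM), fun y hy hy1 => (Subgroup.eq_bot_iff_forall _).2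
      fun v hv => ?_⟩
    obtain ⟨i, rfl⟩ := Subgroup.mem_zpowers_iff.1 hy
    refine hfix _ (zpow_mem haM i) (fun hyF => hy1 ?_) v hv.1
      (Subgroup.mem_centralizer_singleton_iff.1 hv.2)
    exact hfix a haM haF _ hyF ((Commute.refl a).zpow_left i).eq
  exact hfpf.isNilpotent fun e => haF (by
    rw [show a = 1 from zpowers_eq_bot.1 e]; exact one_mem _)

theorem eq_bot_of_abelian (N : Subgroup G) [hN : N.Normal] [IsMulCommutative N] : N = ⊥ := by
  haveI : Fact (Nat.Prime 2) := ⟨Nat.prime_two⟩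
  by_contra hne
  by_cases hex : ∃ M, MaxSol M ∧ F M ≠ ⊥
  · obtain ⟨M, hM, hFM⟩ := hex
    obtain ⟨hle, hnorm, hfix, hti, -⟩ := h M hM
    have hNM : N ≤ M := by
      haveI := hM.1
      haveI : (N.subgroupOf (M ⊔ N)).Normal := Subgroup.Normal.subgroupOf hN _
      have hs : Group.IsSolvable ↥(M ⊔ N) := by
        refine Base.isSolvable_of_normal (N.subgroupOf (M ⊔ N)) ?_ ?_
        · haveI : Group.IsSolvable N :=
            Group.isSolvable_of_comm fun a b => IsMulCommutative.is_comm.comm a b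
          exact Group.isSolvable_of_isSolvable_injective
            (f := (subgroupOfEquivOfLe (le_sup_right : N ≤ M ⊔ N)).toMonoidHom)
            (subgroupOfEquivOfLe _).injective
        · refine Group.isSolvable_of_surjective
            (f := (QuotientGroup.mk' (N.subgroupOf (M ⊔ N))).comp
              (Subgroup.inclusion (le_sup_left : M ≤ M ⊔ N))) fun q => ?_
          obtain ⟨⟨x, hx⟩, rfl⟩ := QuotientGroup.mk'_surjective _ q
          obtain ⟨m, hm, n, hn, rfl⟩ := (Subgroup.mem_sup_of_normal_right (s := M) (t := N)).1 hx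
          refine ⟨⟨m, hm⟩, ?_⟩
          simp only [MonoidHom.comp_apply, QuotientGroup.mk'_apply]
          rw [QuotientGroup.eq, Subgroup.mem_subgroupOf]
          simpa using hn
      by_contra hnle
      exact hM.2 _ (lt_of_le_of_ne le_sup_left fun e => hnle (e.symm ▸ le_sup_right)) hs
    obtain ⟨x, hx, hx1⟩ : ∃ x ∈ N ⊓ F M, x ≠ 1 := by
      refine (Subgroup.bot_or_exists_ne_one _).resolve_left fun e => ?_
      obtain ⟨y, hy, hy1⟩ := (Subgroup.bot_or_exists_ne_one _).resolve_left hFM
      obtain ⟨n, hn, hn1⟩ := (Subgroup.bot_or_exists_ne_one _).resolve_left hne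
      have hcm : n * y * n⁻¹ * y⁻¹ ∈ N ⊓ F M := by
        refine ⟨?_, mul_mem ((Subgroup.mem_normalizer_iff.1 (hnorm (hNM hn)) y).1 hy) ((F M).inv_mem hy)⟩
        rw [show n * y * n⁻¹ * y⁻¹ = n * (y * n⁻¹ * y⁻¹) by group]
        exact mul_mem hn (hN.conj_mem _ (N.inv_mem hn) y)
      rw [e, mem_bot] at hcm
      have hnF := centralizer_le_kernel h hns hM hy hy1 (Subgroup.mem_centralizer_singleton_iff.2
        (mul_inv_eq_iff_eq_mul.1 (mul_inv_eq_one.1 hcm)))
      have : n ∈ N ⊓ F M := ⟨hn, hnF⟩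
      rw [e, mem_bot] at this
      exact hn1 this
    have hNF : N ≤ F M := fun n hn => centralizer_le_kernel h hns hM hx.2 hx1
      (Subgroup.mem_centralizer_singleton_iff.2 (congrArg Subtype.val
        (IsMulCommutative.is_comm.comm (⟨n, hn⟩ : N) ⟨x, hx.1⟩)))
    obtain ⟨g, -, hg⟩ := SetLike.exists_of_lt (lt_top_iff_ne_top.2 (fun e : M = ⊤ => hns (by
      haveI := hM.1
      exact Group.isSolvable_of_surjective (f := M.subtype) fun y => ⟨⟨y, e ▸ mem_top y⟩, rfl⟩)))
    refine hne ((Subgroup.eq_bot_iff_forall _).2 fun n hn => ?_)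
    have hm : n ∈ F M ⊓ MulAut.conj g • F M :=
      ⟨hNF hn, mem_conj_smul.2 (hNF (by simpa using hN.conj_mem n hn g⁻¹))⟩
    rwa [hti g hg, mem_bot] at hm
  · push Not at hex
    obtain ⟨S⟩ : Nonempty (Sylow 2 G) := inferInstance
    obtain ⟨M, hle, hM⟩ := exists_maxSol (isSolvable_normalizer S)
    have hab : IsMulCommutative M := (h M hM).2.2.2.2.resolve_left fun hf => hf (hex M hM)
    refine hns (isSolvable_of_burnside S fun g hg => Subgroup.mem_centralizer_iff.2 fun s hs => ?_)
    exact congrArg Subtype.val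
      (hab.is_comm.comm (⟨s, hle (le_normalizer hs)⟩ : M) ⟨g, hle hg⟩)

/-- There is no soluble normal subgroup. -/
theorem eq_bot_of_solvable (N : Subgroup G) (hN : N.Normal) (hsol : Group.IsSolvable N) :
    N = ⊥ := by
  obtain ⟨n, hn⟩ := Group.IsSolvable.solvable (G := N)
  haveI := hN
  have key : ∀ k, k ≤ n → derivedSeries N (n - k) = ⊥ := by
    intro k
    induction k with
    | zero => exact fun _ => hn
    | succ k ih =>
      intro hk
      set j := n - (k + 1)
      have hj : derivedSeries N (j + 1) = ⊥ := by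
        rw [show j + 1 = n - k by omega]; exact ih (by omega)
      haveI : IsMulCommutative ((derivedSeries N j).map N.subtype) := by
        refine ⟨⟨?_⟩⟩
        rintro ⟨-, a, ha, rfl⟩ ⟨-, b, hb, rfl⟩
        rw [derivedSeries_succ] at hj
        refine Subtype.ext (congrArg Subtype.val (?_ : a * b = b * a) :)
        exact (Subgroup.commutator_eq_bot_iff_le_centralizer.1 hj ha b hb).symm
      exact (Subgroup.map_eq_bot_iff_of_injective _ N.subtype_injective).1
        (eq_bot_of_abelian h hns ((derivedSeries N j).map N.subtype))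
  have h0 := key n le_rfl
  rw [Nat.sub_self, derivedSeries_zero] at h0
  refine (Subgroup.eq_bot_iff_forall _).2 fun x hx => ?_
  exact congrArg Subtype.val ((Subgroup.eq_bot_iff_forall _).1 h0 ⟨x, hx⟩ (mem_top _))

/-- One of the kernels has even order. -/
theorem exists_even : ∃ M, MaxSol M ∧ ∃ x ∈ F M, orderOf x = 2 := by
  haveI : Fact (Nat.Prime 2) := ⟨Nat.prime_two⟩
  by_contra hno
  push Not at hno
  obtain ⟨S⟩ : Nonempty (Sylow 2 G) := inferInstance
  obtain ⟨M, hle, hM⟩ := exists_maxSol (isSolvable_normalizer S)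
  obtain ⟨-, hnorm, hfix, -, hab⟩ := h M hM
  rcases eq_or_ne (F M) ⊥ with hFM | hFM
  · have hab' := hab.resolve_left (fun hf => hf hFM)
    refine hns (isSolvable_of_burnside S fun g hg => Subgroup.mem_centralizer_iff.2 fun s hs => ?_)
    exact congrArg Subtype.val
      (hab'.is_comm.comm (⟨s, hle (le_normalizer hs)⟩ : M) ⟨g, hle hg⟩)
  have hSM : (S : Subgroup G) ≤ M := le_normalizer.trans hle
  have hodd : Odd (Nat.card (F M)) :=
    (Involutions.odd_card_iff _).2 fun x hx => hno M hM x hx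
  have hfpf : Base.IsFPF (S : Subgroup G) (F M) := by
    refine ⟨fun s hs => hnorm (hSM hs), fun s hs hs1 => (Subgroup.eq_bot_iff_forall _).2
      fun v hv => ?_⟩
    refine hfix s (hSM hs) (fun hsF => hs1 ?_) v hv.1
      (Subgroup.mem_centralizer_singleton_iff.1 hv.2)
    obtain ⟨k, hk⟩ := S.isPGroup' ⟨s, hs⟩
    have hk' : s ^ 2 ^ k = 1 := congrArg Subtype.val hk
    exact orderOf_eq_one_iff.1 (Nat.eq_one_of_dvd_coprimes
      ((Nat.coprime_two_left.2 (hodd.of_dvd_nat (Subgroup.orderOf_dvd_natCard _ hsF))).pow_left k)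
      (orderOf_dvd_of_pow_eq_one hk') dvd_rfl)
  rcases hfpf.isCyclic_or_quaternion hFM (⊤ : Subgroup (S : Subgroup G))
      (S.isPGroup'.to_subgroup ⊤) with hc | ⟨-, n, hn, ⟨e⟩⟩
  · have hc' : IsCyclic (S : Subgroup G) := Subgroup.topEquiv.isCyclic.1 hc
    refine hns (isSolvable_of_burnside S (hc'.normalizer_le_centralizer ?_))
    refine (Nat.minFac_eq_two_iff _).2 (even_iff_two_dvd.1 ?_)
    exact (Nat.even_or_odd _).resolve_right fun ho => hns (FT.isSolvable_of_odd ho)
  · obtain ⟨j, rfl⟩ : ∃ j, n = j + 1 := ⟨n - 1, by omega⟩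
    have hO : Cfsg.oddCore G = ⊥ :=
      eq_bot_of_solvable h hns _ inferInstance
        (FT.isSolvable_of_odd (Base.odd_card_oddCore G))
    have h2 := Involutions.ZStar.card_center_eq_two S j (Subgroup.topEquiv.symm.trans e) hO
    have h0 : Subgroup.center G = ⊥ := eq_bot_of_abelian h hns _
    rw [h0, Subgroup.card_bot] at h2
    omega

/-- The setup at a kernel of even order. -/
theorem exists_setup : ∃ (A : Subgroup G) (t : G), Setup A t := by
  haveI : Fact (Nat.Prime 2) := ⟨Nat.prime_two⟩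
  obtain ⟨M, hM, x, hx, hxo⟩ := exists_even h hns
  obtain ⟨-, hnorm, -, hti, -⟩ := h M hM
  have hx1 : x ≠ 1 := fun e => by rw [e, orderOf_one] at hxo; omega
  have hne : F M ≠ ⊥ := fun e => hx1 (by rw [e, mem_bot] at hx; exact hx)
  have hnil := isNilpotent_kernel h hns hM hne
  obtain ⟨P, hxP⟩ := (IsPGroup.of_card (G := zpowers x) (n := 1)
    (by rw [Nat.card_zpowers, hxo, pow_one])).exists_le_sylow
  have hxP' : x ∈ (P : Subgroup G) := hxP (mem_zpowers x)
  haveI : Nontrivial (P : Subgroup G) := ⟨⟨⟨x, hxP'⟩, 1, fun e => hx1 (congrArg Subtype.val e)⟩⟩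
  obtain ⟨z, hz, hz1⟩ := (Subgroup.bot_or_exists_ne_one (center (P : Subgroup G))).resolve_left
    ((Subgroup.nontrivial_iff_ne_bot _).1 P.isPGroup'.center_nontrivial)
  have hzF : (z : G) ∈ F M := centralizer_le_kernel h hns hM hx hx1
    (Subgroup.mem_centralizer_singleton_iff.2
      (congrArg Subtype.val (Subgroup.mem_center_iff.1 hz ⟨x, hxP'⟩)).symm)
  have hPF : (P : Subgroup G) ≤ F M := fun p hp =>
    centralizer_le_kernel h hns hM hzF (fun e => hz1 (Subtype.ext e))
      (Subgroup.mem_centralizer_singleton_iff.2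
        (congrArg Subtype.val (Subgroup.mem_center_iff.1 hz ⟨p, hp⟩)))
  haveI := hnil
  obtain ⟨w, hw⟩ : ∃ w : center (F M), orderOf w = 2 := by
    obtain ⟨Q, hQ⟩ := (IsPGroup.of_card (G := zpowers (⟨x, hx⟩ : F M)) (n := 1)
      (by rw [Nat.card_zpowers, Subgroup.orderOf_mk, hxo, pow_one])).exists_le_sylow
    haveI hQn : (Q : Subgroup (F M)).Normal :=
      Q.normal_of_normalizerCondition Group.normalizerCondition_of_isNilpotent
    have hQne : (Q : Subgroup (F M)) ≠ ⊥ := fun e => hx1 (by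
      have := hQ (mem_zpowers (⟨x, hx⟩ : F M))
      rw [e, mem_bot] at this
      exact congrArg Subtype.val this)
    obtain ⟨q, hq, hqo⟩ := EPPOTwo.exists_involution
      (Q.isPGroup'.to_le (inf_le_left : (Q : Subgroup (F M)) ⊓ center (F M) ≤ _))
      (Base.inf_center_ne_bot_of_isNilpotent hQne)
    exact ⟨⟨q, hq.2⟩, by rw [← Subgroup.orderOf_coe]; exact hqo⟩
  refine ⟨F M, ((w : F M) : G), hnil, fun y hy hy1 => centralizer_le_kernel h hns hM hy hy1,
    fun g a ha ha1 hga => ?_, hns, by rw [Subgroup.orderOf_coe, Subgroup.orderOf_coe, hw],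
    (w : F M).2, fun a ha => congrArg Subtype.val (Subgroup.mem_center_iff.1 w.2 ⟨a, ha⟩).symm,
    P, hPF⟩
  refine hnorm (by_contra fun hgM => ha1 ?_)
  have hm : a ∈ F M ⊓ MulAut.conj g • F M := ⟨ha, mem_conj_smul.2 hga⟩
  rwa [hti g hgM, mem_bot] at hm

end CfsgLib.Recog.FrobSys
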