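import Cfsg.Agent.Lib.Recog.FrobSys.StrongEmb
import Cfsg.Agent.Lib.Perm.ZassG.Feit
import Cfsg.Agent.Lib.Chev.Suz2.ZassKernel

/-!
# Nilpotent trivial-intersection subgroups of even order: the Zassenhaus action

The action on the cosets of `N(A)` is that of a Zassenhaus group with kernel `A`.
-/

set_option autoImplicit false
set_option linter.style.haveILetI false
set_option linter.unusedSectionVars false

namespace CfsgLib.Recog.FrobSys

open Subgroup MulAction
open CfsgLib.Involutions

variable {G : Type*} [Group G] [Finite G]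

namespace Setup

variable {A : Subgroup G} {t : G} (hs : Setup A t)
include hs

local notation "x₀" => (QuotientGroup.mk (1 : G) : G ⧸ N₀ A)

/-- The centraliser of `t` is transitive on the other cosets. -/
theorem transitive {z w : G ⧸ N₀ A} (hz : x₀ ≠ z) (hw : x₀ ≠ w) :
    ∃ a ∈ A, a • z = w := by
  classical
  set D := stabilizer G x₀ ⊓ stabilizer G z
  have hAH : A ≤ N₀ A := le_normalizer
  have hDH : ∀ d ∈ D, d ∈ N₀ A := fun d hd => mem_N₀_iff.2 hd.1
  have ha0 : ∀ a ∈ A, a • x₀ = x₀ := fun a ha => mem_N₀_iff.1 (hAH ha)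
  let φ : (↥A ⊕ ↥A × {d : D // d ≠ 1}) → N₀ A :=
    Sum.elim (fun a => ⟨a, hAH a.2⟩)
      (fun p => ⟨(p.1 : G) * (p.2.1 : G) * (p.1 : G)⁻¹,
        mul_mem (mul_mem (hAH p.1.2) (hDH _ p.2.1.2)) (inv_mem (hAH p.1.2))⟩)
  have hne : ∀ p : ↥A × {d : D // d ≠ 1},
      ((φ (Sum.inr p) : N₀ A) : G) ∉ A := by
    rintro ⟨a, ⟨d, hd⟩, hd1⟩ h
    refine hd1 (Subtype.ext ?_)
    have h' : (a : G) * d * (a : G)⁻¹ ∈ A := h
    have hdA : d ∈ A := by
      have := mul_mem (mul_mem (inv_mem a.2) h') a.2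
      rwa [show (a : G)⁻¹ * ((a : G) * d * (a : G)⁻¹) * a = d by group] at this
    exact hs.free hdA hz hd.2
  have hφ : Function.Injective φ := by
    rintro (a | p) (b | q) h
    · exact congrArg Sum.inl (Subtype.ext (congrArg Subtype.val h :))
    · exact absurd (by rw [← h]; exact a.2) (hne q)
    · exact absurd (by rw [h]; exact b.2) (hne p)
    · obtain ⟨a, ⟨d, hd⟩, hd1⟩ := p
      obtain ⟨b, ⟨e, he⟩, he1⟩ := q
      have h' : (a : G) * d * (a : G)⁻¹ = b * e * (b : G)⁻¹ := congrArg Subtype.val h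
      set c := (a : G)⁻¹ * b with hc
      have hcA : c ∈ A := mul_mem (inv_mem a.2) b.2
      have hde : d = c * e * c⁻¹ := by
        calc d = (a : G)⁻¹ * ((a : G) * d * (a : G)⁻¹) * a := by group
          _ = _ := by rw [h', hc]; group
      have hcz : c • z = z := by
        by_contra hne'
        refine hd1 (Subtype.ext (hs.eq_one_of_three hz ?_ (Ne.symm hne') hd.1 hd.2 ?_))
        · intro e'
          have := congrArg (c⁻¹ • ·) e'
          simp only [inv_smul_smul, inv_smul_eq_iff.2 (ha0 c hcA).symm] at this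
          exact hz this
        · show d • c • z = c • z
          rw [hde, mul_smul, mul_smul, inv_smul_smul]
          congr 1
          exact he.2
      have hc1 := hs.free hcA hz hcz
      rw [hc1, one_mul, inv_one, mul_one] at hde
      subst hde
      rw [hc, inv_mul_eq_one] at hc1
      obtain rfl : a = b := Subtype.ext hc1
      rfl
  have hNcard : Nat.card (N₀ A) = Nat.card ↥A * Nat.card D := by
    have hb : Function.Bijective fun p : D × ↥A =>
        (⟨(p.1 : G) * p.2, mul_mem (hDH _ p.1.2) (hAH p.2.2)⟩ : N₀ A) := by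
      refine ⟨fun p q h => ?_, fun h => ?_⟩
      · have h' : (p.1 : G) * p.2 = q.1 * q.2 := congrArg Subtype.val h
        have h1 : (q.1 : G)⁻¹ * p.1 = q.2 * (p.2 : G)⁻¹ := by
          rw [inv_mul_eq_iff_eq_mul, ← mul_assoc, ← h', mul_inv_cancel_right]
        have h2 : (q.1 : G)⁻¹ * p.1 = 1 := hs.free
          (h1 ▸ mul_mem q.2.2 (inv_mem p.2.2)) hz (mul_mem (inv_mem q.1.2) p.1.2).2
        refine Prod.ext (Subtype.ext (inv_mul_eq_one.1 h2).symm) (Subtype.ext ?_)
        rw [h2] at h1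
        exact (mul_inv_eq_one.1 h1.symm).symm
      · obtain ⟨d, hd, hda⟩ := hs.exists_factor h.2 hz
        exact ⟨(⟨d, hd⟩, ⟨_, hda⟩), Subtype.ext (mul_inv_cancel_left _ _)⟩
    rw [← Nat.card_eq_of_bijective _ hb, Nat.card_prod, mul_comm]
  have hsurj : Function.Surjective φ := ((Nat.bijective_iff_injective_and_card φ).2 ⟨hφ, by
    have h1 : Nat.card {d : D // d ≠ 1} + 1 = Nat.card D := by
      haveI := Fintype.ofFinite D
      rw [Nat.card_eq_fintype_card, Fintype.card_subtype_compl, Fintype.card_subtype_eq,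
        Nat.card_eq_fintype_card, Nat.sub_add_cancel Fintype.card_pos]
    rw [Nat.card_sum, Nat.card_prod, hNcard, ← h1]
    ring⟩).2
  obtain ⟨hcw, -, -⟩ := hs.pair_facts hw
  haveI : Nontrivial (stabilizer G x₀ ⊓ stabilizer G w : Subgroup G) :=
    Finite.one_lt_card_iff_nontrivial.1 (by rw [hcw]; exact hs.two_le_invol)
  obtain ⟨⟨d, hd⟩, hd1⟩ := exists_ne (1 : (stabilizer G x₀ ⊓ stabilizer G w : Subgroup G))
  have hd1' : d ≠ 1 := fun e => hd1 (Subtype.ext e)
  obtain ⟨x, hx⟩ := hsurj ⟨d, mem_N₀_iff.2 hd.1⟩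
  rcases x with a | ⟨a, ⟨e, he⟩, he1⟩
  · have : (a : G) = d := congrArg Subtype.val hx
    exact absurd (hs.free (this ▸ a.2) hw hd.2) hd1'
  · have he' : (a : G) * e * (a : G)⁻¹ = d := congrArg Subtype.val hx
    refine ⟨a, a.2, ?_⟩
    by_contra hne'
    refine hd1' (hs.eq_one_of_three hw ?_ (Ne.symm hne') hd.1 hd.2 ?_)
    · intro h
      have := congrArg ((a : G)⁻¹ • ·) h
      simp only [inv_smul_smul, inv_smul_eq_iff.2 (ha0 a a.2).symm] at this
      exact hz this
    · rw [← he', mul_smul, mul_smul, inv_smul_smul]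
      congr 1
      exact he.2

theorem eq_one_of_three' {g : G} {a b c : G ⧸ N₀ A} (hab : a ≠ b) (hbc : b ≠ c) (hac : a ≠ c)
    (ha : g • a = a) (hb : g • b = b) (hc : g • c = c) : g = 1 := by
  obtain ⟨k, rfl⟩ := QuotientGroup.mk_surjective a
  have hk : k • x₀ = (k : G ⧸ N₀ A) := by
    rw [MulAction.Quotient.smul_mk, smul_eq_mul, mul_one]
  have key : ∀ {y : G ⧸ N₀ A}, g • y = y → (k⁻¹ * g * k) • (k⁻¹ • y) = k⁻¹ • y := fun hy => by
    rw [mul_smul, mul_smul, smul_inv_smul, hy]
  have := hs.eq_one_of_three (d := k⁻¹ * g * k) (z := k⁻¹ • b) (w := k⁻¹ • c)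
    (fun e => hab (by rw [← hk, e, smul_inv_smul])) (fun e => hac (by rw [← hk, e, smul_inv_smul]))
    (fun e => hbc ((smul_left_cancel_iff _).1 e))
    (by rw [mul_smul, mul_smul, hk, ha, ← hk, inv_smul_smul]) (key hb) (key hc)
  rw [← conj_eq_one_iff (a := k⁻¹)]
  simpa using this

theorem isKernel : Perm.ZassG.IsKernel x₀ (A) :=
  ⟨fun a ha => mem_N₀_iff.1 (le_normalizer ha), fun g hg a ha => conj_mem (mem_N₀_iff.2 hg) ha,
    fun y w hy hw => by
      obtain ⟨a, ha, e⟩ := hs.transitive (Ne.symm hy) (Ne.symm hw)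
      refine ⟨⟨a, ha⟩, e, fun b hb => Subtype.ext ?_⟩
      have hb' : (b : G) • y = w := hb
      have := hs.free (mul_mem (inv_mem ha) b.2) (Ne.symm hy)
        (by rw [mul_smul, hb', ← e, inv_smul_smul])
      exact (inv_mul_eq_one.1 this).symm⟩

theorem even_card_centralizer : 2 ∣ Nat.card (A) := by
  have := A.orderOf_dvd_natCard hs.mem_self
  rwa [hs.ord] at this

theorem isZassenhausGroup : Cfsg.IsZassenhausGroup G (G ⧸ N₀ A) := by
  classical
  obtain ⟨z, hz⟩ := hs.exists_other
  have hm2 := hs.two_le_invol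
  have hcard : Nat.card (G ⧸ N₀ A) = Nat.card (A) + 1 :=
    (hs.isKernel.card_add_one hz).symm
  have htwo : IsMultiplyPretransitive G (G ⧸ N₀ A) 2 := by
    rw [is_two_pretransitive_iff]
    intro a b c d hab hcd
    obtain ⟨k, hk⟩ := exists_smul_eq G a x₀
    obtain ⟨l, hl⟩ := exists_smul_eq G c x₀
    obtain ⟨e, heA, he⟩ := hs.transitive (z := k • b) (w := l • d)
      (fun h => hab (smul_left_cancel k (hk.trans h))) (fun h => hcd (smul_left_cancel l (hl.trans h)))
    refine ⟨l⁻¹ * e * k, ?_, ?_⟩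
    · rw [mul_smul, mul_smul, hk, mem_N₀_iff.1 (le_normalizer heA), inv_smul_eq_iff, hl]
    · rw [mul_smul, mul_smul, he, inv_smul_smul]
  refine ⟨⟨fun {g h} hgh => ?_⟩, htwo, fun g a b c => hs.eq_one_of_three', ?_, fun N hN hNt => ?_⟩
  · obtain ⟨w, hw⟩ : ∃ w, w ∉ ({x₀, z} : Finset (G ⧸ N₀ A)) := by
      by_contra hne
      push Not at hne
      haveI := Fintype.ofFinite (G ⧸ N₀ A)
      have h1 := Finset.card_le_card (s := (Finset.univ : Finset (G ⧸ N₀ A))) fun u _ => hne u
      have h2 := Finset.card_le_two (a := x₀) (b := z)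
      have h3 := Nat.le_of_dvd Nat.card_pos hs.even_card_centralizer
      rw [Finset.card_univ, ← Nat.card_eq_fintype_card] at h1
      omega
    simp only [Finset.mem_insert, Finset.mem_singleton, not_or] at hw
    have hall : ∀ y : G ⧸ N₀ A, (h⁻¹ * g) • y = y := fun y => by
      rw [mul_smul, hgh y, inv_smul_smul]
    exact (inv_mul_eq_one.1 (hs.eq_one_of_three hz (Ne.symm hw.1) (Ne.symm hw.2)
      (hall _) (hall _) (hall _))).symm
  · haveI : Nontrivial (stabilizer G x₀ ⊓ stabilizer G z : Subgroup G) :=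
      Finite.one_lt_card_iff_nontrivial.1 (by rw [(hs.pair_facts hz).1]; omega)
    obtain ⟨⟨d, hd⟩, hd1⟩ := exists_ne (1 : (stabilizer G x₀ ⊓ stabilizer G z : Subgroup G))
    exact ⟨d, fun e => hd1 (Subtype.ext e), x₀, z, hz, hd.1, hd.2⟩
  · refine ⟨x₀, fun hbot => hs.nsol ?_⟩
    haveI := hN
    haveI : MulAction.IsPretransitive N (G ⧸ N₀ A) := hNt
    have hNcard : Nat.card N = Nat.card (G ⧸ N₀ A) := by
      refine Eq.trans ?_ (index_stabilizer_of_transitive (G := N) x₀)
      exact index_bot.symm.trans (congrArg Subgroup.index hbot).symm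
    have hNodd : Odd (Nat.card N) := by
      rw [hNcard, hcard]
      exact (even_iff_two_dvd.2 hs.even_card_centralizer).add_one
    have hsurj : Function.Surjective ((QuotientGroup.mk' N).comp (N₀ A).subtype) := by
      intro q
      obtain ⟨g, rfl⟩ := QuotientGroup.mk'_surjective N q
      obtain ⟨n, hn⟩ := hNt.exists_smul_eq (g • x₀) x₀
      refine ⟨⟨(n : G) * g, mem_N₀_iff.2 (by rw [mul_smul]; exact hn)⟩, ?_⟩
      show QuotientGroup.mk' N ((n : G) * g) = _
      rw [map_mul, show QuotientGroup.mk' N (n : G) = 1 from (QuotientGroup.eq_one_iff (n : G)).2 n.2,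
        one_mul]
    have hNsol : Group.IsSolvable (N₀ A) := by
      haveI hH : Group.IsNilpotent (A) := hs.nilpotent
      haveI := (Subgroup.normal_in_normalizer (H := A))
      refine Base.isSolvable_of_normal
        ((A).subgroupOf (N₀ A)) ?_ (FT.isSolvable_of_odd ?_)
      · exact Group.isSolvable_of_isSolvable_injective
          (f := (subgroupOfEquivOfLe (le_normalizer (H := A))).toMonoidHom)
          (subgroupOfEquivOfLe _).injective
      · obtain ⟨P, hP⟩ := hs.syl
        haveI : Fact (Nat.Prime 2) := ⟨Nat.prime_two⟩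
        rw [← Nat.not_even_iff_odd, even_iff_two_dvd, ← index_eq_card]
        intro h2
        exact P.not_dvd_index (h2.trans ((relIndex_dvd_of_le_left _ hP).trans
          ⟨_, (relIndex_mul_index (hP.trans le_normalizer)).symm⟩))
    haveI := hNsol
    exact Base.isSolvable_of_normal N (FT.isSolvable_of_odd hNodd)
      (Group.isSolvable_of_surjective hsurj)

theorem inverted {z : G ⧸ N₀ A} (hz : x₀ ≠ z) : Perm.ZassG.Inverted G x₀ z := by
  refine ⟨?_, fun s hsa hsb h hh => ?_⟩
  · rw [odd_card_iff]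
    intro u hu hu2
    have := SE.odd_of_two_fixed hs.stronglyEmbedded hz hu.1 hu.2
    rw [hu2] at this
    exact absurd this (by decide)
  · obtain ⟨v, hv, hvz⟩ := hs.exists_swapping hz
    have hvz' : v • z = x₀ := by rw [← hvz, ← mul_smul, invol_mul_self hv, one_smul]
    have hd : v * s ∈ stabilizer G x₀ ⊓ stabilizer G z :=
      ⟨by show (v * s) • x₀ = x₀; rw [mul_smul, hsa, hvz'],
        by show (v * s) • z = z; rw [mul_smul, hsb, hvz]⟩
    have hD := (hs.pair_facts hz).2.2 v hv hvz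
    -- the two-coset stabiliser is inverted by `v`, hence abelian
    have hcomm : (v * s) * h = h * (v * s) := by
      have e : (v * (v * s) * v⁻¹) * (v * h * v⁻¹) = v * ((v * s) * h) * v⁻¹ := by group
      rw [hD _ hd, hD _ hh, hD _ (mul_mem hd hh)] at e
      have := congrArg (·⁻¹) e
      simpa [mul_inv_rev] using this.symm
    calc s * h * s⁻¹ = v⁻¹ * ((v * s) * h * (v * s)⁻¹) * v := by group
      _ = v⁻¹ * h * v := by rw [hcomm]; group
      _ = v * h * v⁻¹ := by rw [invol_inv hv]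
      _ = h⁻¹ := hD _ hh

end Setup

end CfsgLib.Recog.FrobSys
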